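import Mathlib

/-!
# A proper ideal of an Artinian ring has a nonzero annihilator  (helper81)
-/

set_option autoImplicit false
universe u

namespace Groth.Agent.H81.Tate

/-- In an Artinian ring every proper ideal is killed by a nonzero element. -/
theorem exists_ne_zero_mul_eq_zero {C : Type u} [CommRing C] [IsArtinianRing C] (d : Ideal C)
    (hd : d ≠ ⊤) : ∃ s : C, s ≠ 0 ∧ ∀ x ∈ d, s * x = 0 := by
  obtain ⟨m, hm, hdm⟩ := Ideal.exists_le_maximal d hd
  haveI := hm.isPrime
  have h1 : m ∈ (Module.annihilator C C).minimalPrimes :=
    IsArtinianRing.mem_minimalPrimes (by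
      have : Module.annihilator C C = ⊥ := by
        rw [eq_bot_iff]
        intro r hr
        have := Module.mem_annihilator.mp hr (1 : C)
        simpa using this
      rw [this]; exact bot_le)
  have h2 : m ∈ associatedPrimes C C :=
    Module.associatedPrimes.minimalPrimes_annihilator_subset_associatedPrimes C C h1
  obtain ⟨-, s, hs⟩ := isAssociatedPrime_iff.mp h2
  refine ⟨s, ?_, fun x hx => ?_⟩
  · rintro rfl
    apply hm.ne_top
    rw [hs, eq_top_iff]
    intro r _
    rw [Submodule.mem_colon_singleton]
    simp
  · have : x ∈ Submodule.colon (⊥ : Submodule C C) {s} := hs ▸ hdm hx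
    rw [Submodule.mem_colon_singleton, Submodule.mem_bot, smul_eq_mul] at this
    rw [mul_comm]; exact this

end Groth.Agent.H81.Tate
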