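import Mathlib

/-!
# Coefficientwise application of a linear form to a polynomial (towards Tate's theorem)

For an `A`-algebra `B`, a family `β : σ → B` and an `A`-linear form `φ : B → A` we define
`sharp β φ : B[y] → B`, `∑ b_α y^α ↦ ∑ φ(b_α) β^α`: apply `φ` to the coefficients, then evaluate at `β`.
-/

set_option autoImplicit false

open MvPolynomial

namespace Groth.Agent.H81.Tate

variable {A B : Type*} [CommRing A] [CommRing B] [Algebra A B] {σ : Type*}

/-- apply an `A`-linear form to the coefficients of a polynomial over `B` -/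
noncomputable def cmap (φ : B →ₗ[A] A) : MvPolynomial σ B →ₗ[A] MvPolynomial σ A where
  toFun Q := AddMonoidAlgebra.map φ.toAddMonoidHom Q
  map_add' Q Q' := AddMonoidAlgebra.map_add _ Q Q'
  map_smul' a Q := by
    apply MvPolynomial.ext
    intro m
    change φ (MvPolynomial.coeff m (a • Q)) = MvPolynomial.coeff m (a • AddMonoidAlgebra.map φ.toAddMonoidHom Q)
    rw [MvPolynomial.coeff_smul, MvPolynomial.coeff_smul, map_smul]
    rfl

@[simp] theorem coeff_cmap (φ : B →ₗ[A] A) (Q : MvPolynomial σ B) (m : σ →₀ ℕ) :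
    coeff m (cmap φ Q) = φ (coeff m Q) := rfl

/-- `cmap φ` is linear over polynomials with coefficients in `A` -/
theorem cmap_map_mul (φ : B →ₗ[A] A) (g : MvPolynomial σ A) (Q : MvPolynomial σ B) :
    cmap φ (MvPolynomial.map (algebraMap A B) g * Q) = g * cmap φ Q := by
  classical
  apply MvPolynomial.ext
  intro m
  rw [coeff_cmap, coeff_mul, coeff_mul, map_sum]
  refine Finset.sum_congr rfl fun uv _ => ?_
  rw [coeff_map, coeff_cmap, ← Algebra.smul_def, map_smul, smul_eq_mul]

theorem cmap_C_mul (φ : B →ₗ[A] A) (b : B) (Q : MvPolynomial σ B) :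
    cmap φ (C b * Q) = cmap (φ ∘ₗ LinearMap.mulLeft A b) Q := by
  apply MvPolynomial.ext
  intro m
  rw [coeff_cmap, coeff_cmap, coeff_C_mul]
  rfl

/-- decomposition of a polynomial over `B` along a basis of `B` over `A` -/
theorem sum_C_mul_map_cmap {κ : Type*} [Fintype κ] (b : Module.Basis κ A B)
    (Q : MvPolynomial σ B) :
    ∑ k, C (b k) * MvPolynomial.map (algebraMap A B) (cmap (b.coord k) Q) = Q := by
  apply MvPolynomial.ext
  intro m
  rw [coeff_sum]
  have : ∀ k, coeff m (C (b k) * MvPolynomial.map (algebraMap A B) (cmap (b.coord k) Q)) =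
      b.repr (coeff m Q) k • b k := by
    intro k
    rw [coeff_C_mul, coeff_map, coeff_cmap, Module.Basis.coord_apply, Algebra.smul_def, mul_comm]
  rw [Finset.sum_congr rfl fun k _ => this k]
  exact b.sum_repr _

variable (β : σ → B)

/-- apply `φ` to the coefficients, then evaluate at `β` -/
noncomputable def sharp (φ : B →ₗ[A] A) : MvPolynomial σ B →ₗ[A] B :=
  (MvPolynomial.aeval β : MvPolynomial σ A →ₐ[A] B).toLinearMap ∘ₗ cmap φ

theorem sharp_apply (φ : B →ₗ[A] A) (Q : MvPolynomial σ B) :
    sharp β φ Q = MvPolynomial.aeval β (cmap φ Q) := rfl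

theorem sharp_map_mul (φ : B →ₗ[A] A) (g : MvPolynomial σ A) (Q : MvPolynomial σ B) :
    sharp β φ (MvPolynomial.map (algebraMap A B) g * Q) = MvPolynomial.aeval β g * sharp β φ Q := by
  rw [sharp_apply, cmap_map_mul, map_mul, sharp_apply]

theorem sharp_C_mul (φ : B →ₗ[A] A) (b : B) (Q : MvPolynomial σ B) :
    sharp β φ (C b * Q) = sharp β (φ ∘ₗ LinearMap.mulLeft A b) Q := by
  rw [sharp_apply, cmap_C_mul, sharp_apply]

theorem sharp_add (φ ψ : B →ₗ[A] A) (Q : MvPolynomial σ B) :
    sharp β (φ + ψ) Q = sharp β φ Q + sharp β ψ Q := by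
  have h : cmap (σ := σ) (φ + ψ) Q = cmap φ Q + cmap ψ Q := by
    apply MvPolynomial.ext
    intro m
    rw [coeff_add, coeff_cmap, coeff_cmap, coeff_cmap, LinearMap.add_apply]
  rw [sharp_apply, sharp_apply, sharp_apply, h, map_add]

/-- evaluation at `β` expressed through the coordinate forms of a basis -/
theorem sum_mul_sharp_coord {κ : Type*} [Fintype κ] (b : Module.Basis κ A B)
    (Q : MvPolynomial σ B) :
    ∑ k, b k * sharp β (b.coord k) Q = MvPolynomial.aeval β Q := by
  conv_rhs => rw [← sum_C_mul_map_cmap b Q]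
  rw [map_sum]
  refine Finset.sum_congr rfl fun k _ => ?_
  rw [map_mul, aeval_C, Algebra.algebraMap_self_apply, aeval_map_algebraMap, sharp_apply]

/-- `sharp β φ` vanishes on the ideal generated by polynomials over `A` vanishing at `β` -/
theorem sharp_eq_zero_of_mem (φ : B →ₗ[A] A) {ι : Type*} [Fintype ι] (f : ι → MvPolynomial σ A)
    (hf : ∀ i, MvPolynomial.aeval β (f i) = 0) (Q : MvPolynomial σ B)
    (hQ : Q ∈ Ideal.span (Set.range fun i => MvPolynomial.map (algebraMap A B) (f i))) :
    sharp β φ Q = 0 := by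
  obtain ⟨c, rfl⟩ := Ideal.mem_span_range_iff_exists_fun.mp hQ
  rw [map_sum]
  refine Finset.sum_eq_zero fun i _ => ?_
  rw [mul_comm, sharp_map_mul, hf i, zero_mul]

end Groth.Agent.H81.Tate
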