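import Mathlib
import Groth.Prelude.Def_Disc
import Groth.Agent.H11.DiscFree
import Groth.Agent.H81.Tate.Sharp

/-!
# Tate's map `δ : Hom_A(B, A) → B` for `B = A[x]/(f_1, …, f_n)`  (helper81)

`β_j ∈ B` the classes of the variables.  In `B[y]` write `f_i(y) = ∑_j a_ij (y_j - β_j)`; then
`δ(φ) = φ♯(det a)` is `B`-linear and `δ(Trace) = det(∂f_i/∂x_j)(β)`.
-/

set_option autoImplicit false
set_option linter.unusedSectionVars false
set_option linter.unusedVariables false
universe u

open MvPolynomial Matrix

namespace Groth.Agent.H81.Tate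

variable {A B : Type u} [CommRing A] [CommRing B] [Algebra A B] {n : ℕ}

/-- the polynomials `y_j - β_j` over `B` -/
noncomputable def xs (β : Fin n → B) : Fin n → MvPolynomial (Fin n) B := fun j => X j - C (β j)

/-- the polynomials `f_i(y)` over `B` -/
noncomputable def th (B : Type u) [CommRing B] [Algebra A B] (f : Fin n → MvPolynomial (Fin n) A) :
    Fin n → MvPolynomial (Fin n) B :=
  fun i => MvPolynomial.map (algebraMap A B) (f i)

/-- evaluation at `β` as a `B`-algebra map `B[y] → B` -/
noncomputable abbrev evB (β : Fin n → B) : MvPolynomial (Fin n) B →ₐ[B] B := MvPolynomial.aeval β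

theorem evB_xs (β : Fin n → B) (j : Fin n) : evB β (xs β j) = 0 := by
  simp [xs, evB]

theorem evB_C (β : Fin n → B) (b : B) : evB β (C b) = b := by
  rw [evB, aeval_C, Algebra.algebraMap_self_apply]

theorem evB_map (β : Fin n → B) (g : MvPolynomial (Fin n) A) :
    evB β (MvPolynomial.map (algebraMap A B) g) = MvPolynomial.aeval β g :=
  aeval_map_algebraMap B β g

/-- every polynomial is congruent to its value at `β` modulo the `y_j - β_j` -/
theorem sub_C_evB_mem (β : Fin n → B) (Q : MvPolynomial (Fin n) B) :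
    Q - C (evB β Q) ∈ Ideal.span (Set.range (xs β)) := by
  induction Q using MvPolynomial.induction_on with
  | C b => simp [evB]
  | add p q hp hq =>
    have : p + q - C (evB β (p + q)) = (p - C (evB β p)) + (q - C (evB β q)) := by
      rw [map_add, C_add]; ring
    rw [this]
    exact Ideal.add_mem _ hp hq
  | mul_X p j hp =>
    have : p * X j - C (evB β (p * X j)) = (p - C (evB β p)) * X j + C (evB β p) * xs β j := by
      rw [map_mul, C_mul]
      simp only [evB, aeval_X, xs]
      ring
    rw [this]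
    exact Ideal.add_mem _ (Ideal.mul_mem_right _ _ hp)
      (Ideal.mul_mem_left _ _ (Ideal.subset_span ⟨j, rfl⟩))

theorem mem_span_xs_of_evB_eq_zero (β : Fin n → B) (Q : MvPolynomial (Fin n) B)
    (h : evB β Q = 0) : Q ∈ Ideal.span (Set.range (xs β)) := by
  have := sub_C_evB_mem β Q
  rwa [h, C_0, sub_zero] at this

theorem evB_eq_zero_of_mem_span_xs (β : Fin n → B) (Q : MvPolynomial (Fin n) B)
    (h : Q ∈ Ideal.span (Set.range (xs β))) : evB β Q = 0 := by
  have : Ideal.span (Set.range (xs β)) ≤ RingHom.ker (evB β).toRingHom := by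
    rw [Ideal.span_le]
    rintro _ ⟨j, rfl⟩
    exact evB_xs β j
  exact this h

/-- Cramer's rule: `det a · x_j ∈ (a x)` -/
theorem cramer_mem {R : Type*} [CommRing R] (x : Fin n → R) (a : Matrix (Fin n) (Fin n) R)
    (j : Fin n) : a.det * x j ∈ Ideal.span (Set.range (a *ᵥ x)) := by
  have h1 : (a.det • (1 : Matrix (Fin n) (Fin n) R)) *ᵥ x = a.adjugate *ᵥ (a *ᵥ x) := by
    rw [← adjugate_mul, mulVec_mulVec]
  have h2 := congrFun h1 j
  rw [smul_mulVec, one_mulVec, Pi.smul_apply, smul_eq_mul] at h2
  rw [h2]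
  change (fun i => a.adjugate i ⬝ᵥ (a *ᵥ x)) j ∈ _
  simp only [dotProduct]
  exact Ideal.sum_mem _ (fun l _ => Ideal.mul_mem_left _ _ (Ideal.subset_span ⟨l, rfl⟩))

/-- `(x) · det a ⊆ (a x)` -/
theorem mul_det_mem {R : Type*} [CommRing R] (x : Fin n → R) (a : Matrix (Fin n) (Fin n) R)
    (q : R) (hq : q ∈ Ideal.span (Set.range x)) : q * a.det ∈ Ideal.span (Set.range (a *ᵥ x)) := by
  induction hq using Submodule.span_induction with
  | mem y hy =>
    obtain ⟨j, rfl⟩ := hy
    rw [mul_comm]
    exact cramer_mem x a j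
  | zero => rw [zero_mul]; exact Ideal.zero_mem _
  | add y z _ _ hy hz => rw [add_mul]; exact Ideal.add_mem _ hy hz
  | smul r y _ hy => rw [smul_eq_mul, mul_assoc]; exact Ideal.mul_mem_left _ _ hy

section Data

variable (f : Fin n → MvPolynomial (Fin n) A) (β : Fin n → B)
  (hf : ∀ i, MvPolynomial.aeval β (f i) = 0)

include hf in
/-- a matrix `a` over `B[y]` with `f_i(y) = ∑_j a_ij (y_j - β_j)` -/
theorem exists_matrix : ∃ a : Matrix (Fin n) (Fin n) (MvPolynomial (Fin n) B),
    a *ᵥ xs β = th B f := by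
  have h : ∀ i, ∃ c : Fin n → MvPolynomial (Fin n) B, ∑ j, c j * xs β j = th B f i := by
    intro i
    apply Ideal.mem_span_range_iff_exists_fun.mp
    apply mem_span_xs_of_evB_eq_zero
    rw [th, evB_map, hf i]
  choose c hc using h
  exact ⟨c, funext fun i => hc i⟩

variable (hsurj : Function.Surjective (MvPolynomial.aeval β : MvPolynomial (Fin n) A →ₐ[A] B))
  (a : Matrix (Fin n) (Fin n) (MvPolynomial (Fin n) B)) (ha : a *ᵥ xs β = th B f)

include hf hsurj ha in
theorem sharp_C_mul_det (φ : B →ₗ[A] A) (b : B) :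
    sharp β φ (C b * a.det) = b * sharp β φ a.det := by
  obtain ⟨g, rfl⟩ := hsurj b
  have h1 : C (MvPolynomial.aeval β g) - MvPolynomial.map (algebraMap A B) g ∈
      Ideal.span (Set.range (xs β)) := by
    apply mem_span_xs_of_evB_eq_zero
    rw [map_sub, evB_map, evB_C, sub_self]
  have h2 := mul_det_mem (xs β) a _ h1
  rw [ha] at h2
  have h3 := sharp_eq_zero_of_mem β φ f hf _ h2
  rw [sub_mul, map_sub, sub_eq_zero] at h3
  rw [h3, sharp_map_mul]

/-- **Tate's map** `δ : ω_{B/A} → B`, `φ ↦ φ♯(det a)` -/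
noncomputable def delta : Disc.Omega A B →ₗ[B] B where
  toFun φ := sharp β φ.toLinearMap a.det
  map_add' φ ψ := sharp_add β φ.toLinearMap ψ.toLinearMap a.det
  map_smul' b φ := by
    change sharp β (φ.toLinearMap ∘ₗ LinearMap.mulLeft A b) a.det = b * sharp β φ.toLinearMap a.det
    rw [← sharp_C_mul, sharp_C_mul_det f β hf hsurj a ha]

theorem delta_apply (φ : Disc.Omega A B) :
    delta f β hf hsurj a ha φ = sharp β φ.toLinearMap a.det := rfl

include ha in
theorem evB_entry (i j : Fin n) :
    evB β (a i j) = MvPolynomial.aeval β (pderiv j (f i)) := by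
  have h1 : th B f i = ∑ l, a i l * xs β l := by
    rw [← ha]; rfl
  have h2 : pderiv j (th B f i) = ∑ l, (a i l * pderiv j (xs β l) + xs β l * pderiv j (a i l)) := by
    rw [h1, map_sum]
    refine Finset.sum_congr rfl fun l _ => ?_
    rw [Derivation.leibniz, smul_eq_mul, smul_eq_mul]
  have h3 : evB β (pderiv j (th B f i)) = evB β (a i j) := by
    rw [h2, map_sum, Finset.sum_eq_single j]
    · rw [map_add, map_mul, map_mul, evB_xs, zero_mul, add_zero, xs, map_sub, pderiv_X, pderiv_C,
        sub_zero, Pi.single_eq_same, map_one, mul_one]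
    · intro l _ hl
      rw [map_add, map_mul, map_mul, evB_xs, zero_mul, add_zero, xs, map_sub, pderiv_X, pderiv_C,
        sub_zero, Pi.single_eq_of_ne hl, map_zero, mul_zero]
    · intro h; exact absurd (Finset.mem_univ j) h
  rw [← h3, th, pderiv_map, evB_map]

include ha in
/-- the value of `det a` at `β` is the Jacobian determinant -/
theorem evB_det :
    evB β a.det = MvPolynomial.aeval β (Matrix.det (Matrix.of fun i j : Fin n => pderiv j (f i))) := by
  rw [AlgHom.map_det, AlgHom.map_det]
  congr 1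
  ext i j
  rw [AlgHom.mapMatrix_apply, AlgHom.mapMatrix_apply, Matrix.map_apply, Matrix.map_apply,
    evB_entry f β a ha, Matrix.of_apply]

/-- `δ(Trace) = ` the Jacobian determinant -/
theorem delta_trace [Module.Free A B] [Module.Finite A B] :
    delta f β hf hsurj a ha (Disc.Omega.trace A B) =
      MvPolynomial.aeval β (Matrix.det (Matrix.of fun i j : Fin n => pderiv j (f i))) := by
  classical
  let b := Module.Free.chooseBasis A B
  rw [Groth.Agent.H11.DiscFree.trace_decomp b, map_sum, ← evB_det f β a ha,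
    ← sum_mul_sharp_coord β b a.det]
  refine Finset.sum_congr rfl fun k _ => ?_
  rw [map_smul, smul_eq_mul, delta_apply]
  rfl

end Data

end Groth.Agent.H81.Tate
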