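import Mathlib
import Groth.Agent.H27.FittKaehler

/-!
# Zeroth Fitting ideal of `Ω_{B/A}` from a square presentation of `B`  (helper81)

Generalizes `Groth.Agent.H27.FittKaehler.main` from the quotient `A[x]/(f)` to any `A`-algebra with
a presentation by `n` generators and `n` relations.
-/

set_option autoImplicit false
universe u

open MvPolynomial KaehlerDifferential Groth.Agent.Lead

namespace Groth.Agent.H81.Tate

variable {A B : Type u} [CommRing A] [CommRing B] [Algebra A B] {n : ℕ}
  (pres : Algebra.Presentation A B (Fin n) (Fin n))

/-- the Jacobian rows of a presentation, evaluated in `B` -/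
noncomputable def prow (i : Fin n) : Fin n → B :=
  fun j => MvPolynomial.aeval pres.val (pderiv j (pres.relation i))

theorem span_dval_and_relations :
    Submodule.span B (Set.range fun j => D A B (pres.val j)) = ⊤ ∧
    relations B (fun j => D A B (pres.val j)) = Submodule.span B (Set.range (prow pres)) := by
  have hP := pres.differentialsSolution_isPresentation
  have h := (Module.Relations.Solution.isPresentation_iff _).mp hP
  refine ⟨h.1, ?_⟩
  letI : Fintype pres.differentialsRelations.G := inferInstanceAs (Fintype (Fin n))
  have key := Groth.Agent.H27.FittKaehler.relations_of_isPresentation pres.differentialsRelations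
    pres.differentialsSolution hP
  have hj0 : ∀ (r : Fin n) (j : Fin n),
      (pres.differentialsRelations.relation r) j = prow pres r j := by
    intro r j
    have h1 : (pres.differentialsRelations.relation r) j = algebraMap pres.Ring _
        (((mvPolynomialBasis A (Fin n)).repr (D A (MvPolynomial (Fin n) A) (pres.relation r))) j) :=
      rfl
    rw [h1, mvPolynomialBasis_repr_apply, Algebra.Generators.algebraMap_apply]
    rfl
  have hj : (fun r => ⇑(pres.differentialsRelations.relation r)) = prow pres :=
    funext fun r => funext fun j => hj0 r j
  rw [hj] at key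
  exact key

/-- `Fitt₀(Ω_{B/A})` is generated by the Jacobian determinant of a square presentation. -/
theorem fitt_kaehler_of_presentation :
    Fitt.ideal B (Ω[B⁄A]) 0 =
      Ideal.span {MvPolynomial.aeval pres.val
        (Matrix.det (Matrix.of fun i j : Fin n => pderiv j (pres.relation i)))} := by
  obtain ⟨h1, h2⟩ := span_dval_and_relations pres
  rw [fitt_ideal_eq_minorIdeal (fun j => D A B (pres.val j)) h1 0, h2, minorIdeal_span,
    Nat.sub_zero]
  set J : Matrix (Fin n) (Fin n) B := Matrix.of fun i j => prow pres i j with hJ
  have hdet : MvPolynomial.aeval pres.val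
      (Matrix.det (Matrix.of fun i j : Fin n => pderiv j (pres.relation i))) = J.det := by
    rw [AlgHom.map_det]
    rfl
  rw [hdet]
  apply le_antisymm
  · rw [Ideal.span_le]
    rintro d ⟨z, e, hz, rfl⟩
    choose s hs using hz
    have : (Matrix.of fun a b => z b (e a)) = (J.submatrix s e).transpose := by
      ext a b
      simp only [Matrix.of_apply, Matrix.transpose_apply, Matrix.submatrix_apply, hJ, ← hs]
    rw [this, Matrix.det_transpose]
    exact Groth.Agent.H27.FittKaehler.det_submatrix_mem J s e
  · rw [Ideal.span_le, Set.singleton_subset_iff]
    apply Ideal.subset_span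
    refine ⟨prow pres, id, fun b => ⟨b, rfl⟩, ?_⟩
    rw [← Matrix.det_transpose]
    rfl

end Groth.Agent.H81.Tate
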