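import Mathlib
import Groth.Agent.H81.Tate.Delta

/-!
# Separation by linear forms, and finiteness of `C[y]/(f(y))`  (helper81)
-/

set_option autoImplicit false
set_option linter.unusedSectionVars false
set_option linter.unusedVariables false
universe u

open MvPolynomial Matrix

namespace Groth.Agent.H81.Tate

variable {A B : Type u} [CommRing A] [CommRing B] [Algebra A B] {n : ℕ}
  (f : Fin n → MvPolynomial (Fin n) A) (β : Fin n → B)
  (hsurj : Function.Surjective (MvPolynomial.aeval β : MvPolynomial (Fin n) A →ₐ[A] B))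
  (hker : ∀ g : MvPolynomial (Fin n) A, MvPolynomial.aeval β g = 0 → g ∈ Ideal.span (Set.range f))

/-- reduction of polynomials over `B` modulo the ideal `I` of `B` -/
noncomputable abbrev redB (I : Ideal B) : MvPolynomial (Fin n) B →+* MvPolynomial (Fin n) (B ⧸ I) :=
  MvPolynomial.map (Ideal.Quotient.mk I)

include hsurj hker in
/-- a polynomial over `A` whose value at `β` lies in `pB` reduces into `(f(y))` modulo `pB` -/
theorem redB_map_mem (p : Ideal A) (q : MvPolynomial (Fin n) A)
    (hq : MvPolynomial.aeval β q ∈ p.map (algebraMap A B)) :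
    redB (p.map (algebraMap A B)) (MvPolynomial.map (algebraMap A B) q) ∈
      Ideal.span (Set.range fun i => redB (p.map (algebraMap A B)) (th B f i)) := by
  have h1 : p.map (algebraMap A B) =
      (p.map (C : A →+* MvPolynomial (Fin n) A)).map
        (MvPolynomial.aeval β : MvPolynomial (Fin n) A →ₐ[A] B).toRingHom := by
    rw [Ideal.map_map]
    congr 1
    ext a
    simp
  rw [h1] at hq
  obtain ⟨g, hg, hgq⟩ := (Ideal.mem_map_iff_of_surjective _ hsurj).mp hq
  have h2 : q - g ∈ Ideal.span (Set.range f) := by
    apply hker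
    rw [map_sub, sub_eq_zero]
    exact hgq.symm
  have h3 : redB (p.map (algebraMap A B)) (MvPolynomial.map (algebraMap A B) g) = 0 := by
    rw [redB, MvPolynomial.map_map]
    apply MvPolynomial.ext
    intro m
    rw [coeff_map, coeff_zero, RingHom.comp_apply, Ideal.Quotient.eq_zero_iff_mem]
    exact Ideal.mem_map_of_mem _ (MvPolynomial.mem_map_C_iff.mp hg m)
  have h4 : MvPolynomial.map (algebraMap A B) q =
      MvPolynomial.map (algebraMap A B) (q - g) + MvPolynomial.map (algebraMap A B) g := by
    rw [← map_add, sub_add_cancel]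
  rw [h4, map_add, h3, add_zero]
  have h5 := Ideal.mem_map_of_mem ((redB (p.map (algebraMap A B))).comp
    (MvPolynomial.map (algebraMap A B))) h2
  rw [Ideal.map_span, ← Set.range_comp] at h5
  exact h5

include hsurj hker in
/-- **separation**: if `φ♯(Q) ∈ pB` for all linear forms `φ` then `Q ∈ (f(y))` modulo `pB` -/
theorem redB_mem_of_forall_sharp_mem {κ : Type*} [Fintype κ] (b : Module.Basis κ A B)
    (p : Ideal A) (Q : MvPolynomial (Fin n) B)
    (h : ∀ φ : B →ₗ[A] A, sharp β φ Q ∈ p.map (algebraMap A B)) :
    redB (p.map (algebraMap A B)) Q ∈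
      Ideal.span (Set.range fun i => redB (p.map (algebraMap A B)) (th B f i)) := by
  rw [← sum_C_mul_map_cmap b Q, map_sum]
  refine Ideal.sum_mem _ fun k _ => ?_
  rw [map_mul]
  exact Ideal.mul_mem_left _ _ (redB_map_mem f β hsurj hker p _ (h (b.coord k)))

end Groth.Agent.H81.Tate
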