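import Mathlib
import Groth.Agent.H81.Tate.Sep

/-!
# Finiteness of `C[y]/(f(y))` for `C = B/I`  (helper81)
-/

set_option autoImplicit false
set_option linter.unusedSectionVars false
set_option linter.unusedVariables false
universe u

open MvPolynomial Matrix

namespace Groth.Agent.H81.Tate

variable {A B : Type u} [CommRing A] [CommRing B] [Algebra A B] {n : ℕ}
  (f : Fin n → MvPolynomial (Fin n) A) (β : Fin n → B)
  (hker : ∀ g : MvPolynomial (Fin n) A, MvPolynomial.aeval β g = 0 → g ∈ Ideal.span (Set.range f))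

include hker in
/-- `C[y]/(f(y))` is a finite `C`-module for `C = B/I`, if `B = A[x]/(f)` is integral over `A`. -/
theorem finite_quotient_redB [Algebra.IsIntegral A B] (I : Ideal B) :
    Module.Finite (B ⧸ I) (MvPolynomial (Fin n) (B ⧸ I) ⧸
      Ideal.span (Set.range fun i => redB I (th B f i))) := by
  set J := Ideal.span (Set.range fun i => redB I (th B f i)) with hJ
  let ρ₀ : A →+* B ⧸ I := (Ideal.Quotient.mk I).comp (algebraMap A B)
  let ρ : MvPolynomial (Fin n) A →+* MvPolynomial (Fin n) (B ⧸ I) :=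
    (redB I).comp (MvPolynomial.map (algebraMap A B))
  have hρJ : ∀ g ∈ Ideal.span (Set.range f), ρ g ∈ J := by
    intro g hg
    have h5 := Ideal.mem_map_of_mem ρ hg
    rw [Ideal.map_span, ← Set.range_comp] at h5
    exact h5
  have hint : ∀ j, IsIntegral (B ⧸ I) (Ideal.Quotient.mk J (X j)) := by
    intro j
    obtain ⟨m, hm_monic, hm⟩ := Algebra.IsIntegral.isIntegral (R := A) (β j)
    set g : MvPolynomial (Fin n) A := Polynomial.aeval (X j : MvPolynomial (Fin n) A) m with hg
    have hg0 : MvPolynomial.aeval β g = 0 := by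
      rw [hg, ← Polynomial.aeval_algHom_apply, aeval_X]
      exact hm
    have hgJ := hρJ g (hker g hg0)
    have hcomp : (algebraMap (B ⧸ I) (MvPolynomial (Fin n) (B ⧸ I))).comp ρ₀ =
        ρ.comp (algebraMap A (MvPolynomial (Fin n) A)) := by
      ext a
      simp [ρ, ρ₀, redB]
    have hρg : ρ g = Polynomial.aeval (X j : MvPolynomial (Fin n) (B ⧸ I)) (m.map ρ₀) := by
      rw [hg, Polynomial.map_aeval_eq_aeval_map hcomp]
      congr 1
      simp [ρ, redB]
    refine ⟨m.map ρ₀, hm_monic.map _, ?_⟩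
    rw [← Polynomial.aeval_def]
    have : Ideal.Quotient.mk J (X j) = Ideal.Quotient.mkₐ (B ⧸ I) J (X j) := rfl
    rw [this, Polynomial.aeval_algHom_apply, ← hρg, Ideal.Quotient.mkₐ_eq_mk,
      Ideal.Quotient.eq_zero_iff_mem]
    exact hgJ
  have hadj : Algebra.adjoin (B ⧸ I) (Set.range fun j : Fin n => Ideal.Quotient.mk J (X j)) = ⊤ := by
    have h1 := MvPolynomial.adjoin_range_X (R := B ⧸ I) (σ := Fin n)
    have h2 := congrArg (Subalgebra.map (Ideal.Quotient.mkₐ (B ⧸ I) J)) h1
    rw [AlgHom.map_adjoin, Algebra.map_top, ← Set.range_comp] at h2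
    rw [(AlgHom.range_eq_top _).mpr (Ideal.Quotient.mkₐ_surjective _ _)] at h2
    exact h2
  have hfg := fg_adjoin_of_finite (Set.finite_range fun j : Fin n => Ideal.Quotient.mk J (X j))
    (by rintro _ ⟨j, rfl⟩; exact hint j)
  rw [hadj, Algebra.top_toSubmodule] at hfg
  exact ⟨hfg⟩

end Groth.Agent.H81.Tate
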