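import Mathlib
import Groth.Agent.H81.Wat.Wiebe
import Groth.Agent.H46.RelGCIFlat
import Groth.Agent.H74.FinSyntPres

/-!
# Wiebe's lemma, global form, and regularity of square systems with finite quotient  (helper81)
-/

set_option autoImplicit false
set_option linter.unusedSectionVars false
set_option linter.unusedVariables false
universe u

open MvPolynomial Matrix RingTheory.Sequence

namespace Groth.Agent.H81.Tate

/-- `n` polynomials in `n` variables over a Noetherian ring `C` with module-finite quotient form a
weakly regular sequence in the local ring of every prime containing them. -/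
theorem isWeaklyRegular_localization_of_finite {C : Type u} [CommRing C] [IsNoetherianRing C]
    (n : ℕ) (F : Fin n → MvPolynomial (Fin n) C)
    [Module.Finite C (MvPolynomial (Fin n) C ⧸ Ideal.span (Set.range F))]
    (q' : Ideal (MvPolynomial (Fin n) C)) [q'.IsPrime] (hq' : Ideal.span (Set.range F) ≤ q') :
    IsWeaklyRegular (Localization.AtPrime q')
      (List.ofFn fun i => algebraMap _ (Localization.AtPrime q') (F i)) := by
  have hGCI : Synt.IsRelGCI C n n F := by
    intro p hnt
    refine ⟨le_rfl, ?_⟩
    rw [Nat.sub_self]
    haveI := hnt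
    exact Groth.Agent.H74.FinSyntPres.ringKrullDim_fiber_eq_zero (A := C)
      (B := Synt.RelGCIRing C n n F) p.asIdeal
  have h := (Groth.Agent.H46.RelGCIFlat.noeth_local n n F hGCI q' hq').1
  rwa [List.map_ofFn] at h

/-- **Wiebe's lemma, global form**: `θ = a x` in a Noetherian ring, `θ` a regular sequence in the local
ring of every maximal ideal containing `x`.  Then `(θ) : det a ⊆ (x)`. -/
theorem wiebe_global {R : Type u} [CommRing R] [IsNoetherianRing R] {n : ℕ} (θ x : Fin n → R)
    (a : Matrix (Fin n) (Fin n) R) (ha : a *ᵥ x = θ)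
    (hreg : ∀ (M : Ideal R) [M.IsMaximal], (∀ j, x j ∈ M) →
      IsWeaklyRegular (Localization.AtPrime M)
        (List.ofFn fun i => algebraMap R (Localization.AtPrime M) (θ i)))
    (s : R) (hs : s * a.det ∈ Ideal.span (Set.range θ)) : s ∈ Ideal.span (Set.range x) := by
  apply Ideal.mem_of_localization_maximal
  intro M hM
  haveI := hM
  set L := Localization.AtPrime M
  have hmapx : Ideal.map (algebraMap R L) (Ideal.span (Set.range x)) =
      Ideal.span (Set.range fun j => algebraMap R L (x j)) := by
    rw [Ideal.map_span, ← Set.range_comp]; rfl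
  have hmapθ : Ideal.map (algebraMap R L) (Ideal.span (Set.range θ)) =
      Ideal.span (Set.range fun j => algebraMap R L (θ j)) := by
    rw [Ideal.map_span, ← Set.range_comp]; rfl
  by_cases hx : ∀ j, x j ∈ M
  · rw [hmapx]
    refine Groth.Agent.H81.Wat.wiebe (fun i => algebraMap R L (θ i)) (fun j => algebraMap R L (x j))
      (hreg M hx) ?_ ((algebraMap R L).mapMatrix a) ?_ _ ?_
    · intro j
      exact (IsLocalization.AtPrime.to_map_mem_maximal_iff L M (x j)).mpr (hx j)
    · rw [← ha]
      funext i
      exact (RingHom.map_mulVec (algebraMap R L) a x i).symm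
    · rw [← RingHom.map_det, ← map_mul, ← hmapθ]
      exact Ideal.mem_map_of_mem _ hs
  · push Not at hx
    obtain ⟨j, hj⟩ := hx
    have hu : IsUnit (algebraMap R L (x j)) :=
      IsLocalization.map_units L (⟨x j, hj⟩ : M.primeCompl)
    have : Ideal.map (algebraMap R L) (Ideal.span (Set.range x)) = ⊤ :=
      Ideal.eq_top_of_isUnit_mem _ (Ideal.mem_map_of_mem _ (Ideal.subset_span ⟨j, rfl⟩)) hu
    rw [this]
    exact Submodule.mem_top

end Groth.Agent.H81.Tate
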