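import Mathlib
import Groth.Agent.H81.Tate.Fin
import Groth.Agent.H81.Tate.WiebeGlobal
import Groth.Agent.H81.Tate.Artin

/-!
# Tate's theorem: for `B = A[x]/(f_1, …, f_n)` finite free over `A`, `δ : Hom_A(B, A) → B` is an
isomorphism carrying the trace to the Jacobian determinant  (helper81)
-/

set_option autoImplicit false
set_option linter.unusedSectionVars false
set_option linter.unusedVariables false
set_option linter.style.haveILetI false
universe u

open MvPolynomial Matrix

namespace Groth.Agent.H81.Tate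

variable {A B : Type u} [CommRing A] [CommRing B] [Algebra A B] {n : ℕ}
  (f : Fin n → MvPolynomial (Fin n) A) (β : Fin n → B)
  (hf : ∀ i, MvPolynomial.aeval β (f i) = 0)
  (hsurj : Function.Surjective (MvPolynomial.aeval β : MvPolynomial (Fin n) A →ₐ[A] B))
  (hker : ∀ g : MvPolynomial (Fin n) A, MvPolynomial.aeval β g = 0 → g ∈ Ideal.span (Set.range f))
  (a : Matrix (Fin n) (Fin n) (MvPolynomial (Fin n) B)) (ha : a *ᵥ xs β = th B f)

theorem redB_xs (I : Ideal B) (j : Fin n) :
    redB I (xs β j) = xs (fun l => Ideal.Quotient.mk I (β l)) j := by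
  simp [redB, xs]

include hsurj hker ha in
/-- the key step: modulo `pB`, an element `s` with `s · δ(ω) ⊆ pB` is zero -/
theorem mem_of_forall_mul_delta_mem [Module.Finite A B] [Module.Free A B]
    (p : Ideal A) [p.IsMaximal] (s : B)
    (hs : ∀ φ : Disc.Omega A B, s * delta f β hf hsurj a ha φ ∈ p.map (algebraMap A B)) :
    s ∈ p.map (algebraMap A B) := by
  classical
  set I := p.map (algebraMap A B) with hI
  let b := Module.Free.chooseBasis A B
  -- `C` is a finite algebra over the field `A / p`
  letI : Field (A ⧸ p) := Ideal.Quotient.field p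
  haveI : Module.Finite (A ⧸ p) (B ⧸ I) := Module.Finite.of_restrictScalars_finite A (A ⧸ p) (B ⧸ I)
  haveI : IsArtinianRing (B ⧸ I) := IsArtinianRing.of_finite (A ⧸ p) (B ⧸ I)
  haveI : IsNoetherianRing (B ⧸ I) := inferInstance
  haveI : Algebra.IsIntegral A B := Algebra.IsIntegral.of_finite A B
  haveI := finite_quotient_redB f β hker I
  -- `φ♯(s · det a) ∈ pB` for all `φ`
  have h1 : ∀ φ : B →ₗ[A] A, sharp β φ (C s * a.det) ∈ I := by
    intro φ
    have := hs ⟨φ⟩
    rwa [delta_apply, ← sharp_C_mul_det f β hf hsurj a ha] at this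
  have h2 := redB_mem_of_forall_sharp_mem f β hsurj hker b p (C s * a.det) h1
  -- Wiebe's lemma in `C[y]`
  set β' : Fin n → B ⧸ I := fun l => Ideal.Quotient.mk I (β l) with hβ'
  set θ' : Fin n → MvPolynomial (Fin n) (B ⧸ I) := fun i => redB I (th B f i) with hθ'
  set a' : Matrix (Fin n) (Fin n) (MvPolynomial (Fin n) (B ⧸ I)) := (redB I).mapMatrix a with ha'
  have ha'x : a' *ᵥ xs β' = θ' := by
    funext i
    have := RingHom.map_mulVec (redB I) a (xs β) i
    rw [ha] at this
    rw [hθ']
    simp only
    rw [this]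
    congr 1
    funext j
    exact (redB_xs β I j).symm
  have h3 : redB I (C s * a.det) = C (Ideal.Quotient.mk I s) * a'.det := by
    rw [map_mul, RingHom.map_det, redB, MvPolynomial.map_C]
  rw [h3] at h2
  have h4 := wiebe_global θ' (xs β') a' ha'x (fun M hM hx => by
    haveI := hM
    apply isWeaklyRegular_localization_of_finite n θ' M
    rw [Ideal.span_le]
    rintro _ ⟨i, rfl⟩
    rw [← ha'x]
    change (fun i => a' i ⬝ᵥ xs β') i ∈ M
    simp only [dotProduct]
    exact Ideal.sum_mem _ fun j _ => Ideal.mul_mem_left _ _ (hx j)) _ h2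
  have h5 := evB_eq_zero_of_mem_span_xs β' _ h4
  rw [evB_C] at h5
  exact Ideal.Quotient.eq_zero_iff_mem.mp h5

include hsurj hker ha in
/-- `δ` is surjective -/
theorem delta_surjective [Module.Finite A B] [Module.Free A B] :
    Function.Surjective (delta f β hf hsurj a ha) := by
  rw [← LinearMap.range_eq_top]
  by_contra hne
  set d : Ideal B := LinearMap.range (delta f β hf hsurj a ha) with hd
  obtain ⟨m, hm, hdm⟩ := Ideal.exists_le_maximal d hne
  haveI := hm
  haveI : Algebra.IsIntegral A B := Algebra.IsIntegral.of_finite A B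
  set p := m.comap (algebraMap A B) with hp
  haveI : p.IsMaximal := Ideal.isMaximal_comap_of_isIntegral_of_isMaximal m
  set I := p.map (algebraMap A B) with hI
  have hIm : I ≤ m := Ideal.map_comap_le
  letI : Field (A ⧸ p) := Ideal.Quotient.field p
  haveI : Module.Finite (A ⧸ p) (B ⧸ I) := Module.Finite.of_restrictScalars_finite A (A ⧸ p) (B ⧸ I)
  haveI : IsArtinianRing (B ⧸ I) := IsArtinianRing.of_finite (A ⧸ p) (B ⧸ I)
  -- the image of `d` in `B / pB` is a proper ideal
  have hd' : d.map (Ideal.Quotient.mk I) ≠ ⊤ := by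
    intro htop
    have h1 : (1 : B ⧸ I) ∈ d.map (Ideal.Quotient.mk I) := htop ▸ Submodule.mem_top
    obtain ⟨x, hx, hx1⟩ := (Ideal.mem_map_iff_of_surjective _ Ideal.Quotient.mk_surjective).mp h1
    have h2 : x - 1 ∈ I := by
      rw [← Ideal.Quotient.eq_zero_iff_mem, map_sub, hx1, map_one, sub_self]
    apply hm.ne_top
    rw [Ideal.eq_top_iff_one]
    have : (1 : B) = x - (x - 1) := by ring
    rw [this]
    exact Ideal.sub_mem _ (hdm hx) (hIm h2)
  obtain ⟨s', hs'0, hs'⟩ := exists_ne_zero_mul_eq_zero _ hd'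
  obtain ⟨s, rfl⟩ := Ideal.Quotient.mk_surjective s'
  apply hs'0
  rw [Ideal.Quotient.eq_zero_iff_mem]
  apply mem_of_forall_mul_delta_mem f β hf hsurj hker a ha p s
  intro φ
  rw [← Ideal.Quotient.eq_zero_iff_mem, map_mul]
  exact hs' _ (Ideal.mem_map_of_mem _ ⟨φ, rfl⟩)

end Groth.Agent.H81.Tate

namespace Groth.Agent.H81.Tate

variable {A B : Type u} [CommRing A] [CommRing B] [Algebra A B] {n : ℕ}
  (f : Fin n → MvPolynomial (Fin n) A) (β : Fin n → B)
  (hf : ∀ i, MvPolynomial.aeval β (f i) = 0)
  (hsurj : Function.Surjective (MvPolynomial.aeval β : MvPolynomial (Fin n) A →ₐ[A] B))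
  (hker : ∀ g : MvPolynomial (Fin n) A, MvPolynomial.aeval β g = 0 → g ∈ Ideal.span (Set.range f))
  (a : Matrix (Fin n) (Fin n) (MvPolynomial (Fin n) B)) (ha : a *ᵥ xs β = th B f)

include hsurj hker ha in
/-- `δ` is injective (a surjective endomorphism of a finite module is injective) -/
theorem delta_injective [Module.Finite A B] [Module.Free A B] :
    Function.Injective (delta f β hf hsurj a ha) := by
  classical
  let b := Module.Free.chooseBasis A B
  let h : Module.Dual A B →ₗ[A] B :=
    { toFun := fun φ => delta f β hf hsurj a ha ⟨φ⟩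
      map_add' := fun φ ψ => (delta f β hf hsurj a ha).map_add ⟨φ⟩ ⟨ψ⟩
      map_smul' := fun r φ => by
        have e : (⟨r • φ⟩ : Disc.Omega A B) = algebraMap A B r • (⟨φ⟩ : Disc.Omega A B) := by
          apply Disc.Omega.ext
          apply LinearMap.ext
          intro x
          change r • φ x = φ (algebraMap A B r * x)
          rw [← Algebra.smul_def, map_smul]
        change delta f β hf hsurj a ha ⟨r • φ⟩ = r • delta f β hf hsurj a ha ⟨φ⟩
        rw [e, map_smul, smul_eq_mul, Algebra.smul_def] }
  have hs : Function.Surjective (h ∘ₗ b.toDualEquiv.toLinearMap) := by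
    intro y
    obtain ⟨φ, hφ⟩ := delta_surjective f β hf hsurj hker a ha y
    obtain ⟨z, hz⟩ := b.toDualEquiv.surjective φ.toLinearMap
    refine ⟨z, ?_⟩
    rw [LinearMap.comp_apply]
    change h (b.toDualEquiv z) = y
    rw [hz]
    exact hφ
  have hi := OrzechProperty.injective_of_surjective_endomorphism _ hs
  intro φ ψ hφψ
  apply Disc.Omega.ext
  obtain ⟨z, hz⟩ := b.toDualEquiv.surjective φ.toLinearMap
  obtain ⟨w, hw⟩ := b.toDualEquiv.surjective ψ.toLinearMap
  have : z = w := by
    apply hi
    rw [LinearMap.comp_apply, LinearMap.comp_apply]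
    change h (b.toDualEquiv z) = h (b.toDualEquiv w)
    rw [hz, hw]
    exact hφψ
  rw [← hz, ← hw, this]

include hf hsurj hker in
/-- **Tate's theorem.**  Let `B = A[x_1, …, x_n]/(f_1, …, f_n)` (presented through `β`) be finite free
over `A`.  Then there is a `B`-linear isomorphism `B ≃ Hom_A(B, A)` carrying the Jacobian determinant
to the trace. -/
theorem exists_equiv [Module.Finite A B] [Module.Free A B] :
    ∃ e : B ≃ₗ[B] Disc.Omega A B,
      e (MvPolynomial.aeval β (Matrix.det (Matrix.of fun i j : Fin n => pderiv j (f i)))) =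
        Disc.Omega.trace A B := by
  obtain ⟨a, ha⟩ := exists_matrix f β hf
  refine ⟨(LinearEquiv.ofBijective (delta f β hf hsurj a ha)
    ⟨delta_injective f β hf hsurj hker a ha, delta_surjective f β hf hsurj hker a ha⟩).symm, ?_⟩
  rw [LinearEquiv.symm_apply_eq]
  exact (delta_trace f β hf hsurj a ha).symm

end Groth.Agent.H81.Tate
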