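import Mathlib
import Groth.Prelude.Def_QFDual
import Groth.Agent.H81.Tate.Main
import Groth.Agent.H81.Tate.FittPres
import Groth.Agent.H74.FinSyntPres

/-!
# The different of a finite free square complete intersection is the Kähler different  (helper81)
-/

set_option autoImplicit false
set_option linter.unusedSectionVars false
set_option linter.unusedVariables false
universe u

open MvPolynomial

namespace Groth.Agent.H81.Tate

variable {A B : Type u} [CommRing A] [CommRing B] [Algebra A B]

/-- the prelude's different set is the different ideal of the trace element -/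
theorem differentSet_eq_different [Module.Free A B] [Module.Finite A B] :
    Disc.differentSet A B = (QFDual.different B (Disc.Omega.trace A B) : Set B) := by
  ext b
  rw [SetLike.mem_coe, QFDual.mem_different_iff]
  constructor
  · intro h m
    obtain ⟨c, hc⟩ := h m.toLinearMap
    refine ⟨c, ?_⟩
    apply Disc.Omega.ext
    apply LinearMap.ext
    intro x
    exact (hc x).symm
  · intro h φ
    obtain ⟨c, hc⟩ := h ⟨φ⟩
    refine ⟨c, fun x => ?_⟩
    have := congrArg (fun m : Disc.Omega A B => m.toLinearMap x) hc
    exact this.symm

/-- if `ε : B ≃ ω` carries `J` to the trace element, the different is `(J)` -/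
theorem different_eq_span_of_equiv [Module.Free A B] [Module.Finite A B]
    (ε : B ≃ₗ[B] Disc.Omega A B) (J : B) (h : ε J = Disc.Omega.trace A B) :
    QFDual.different B (Disc.Omega.trace A B) = Ideal.span {J} := by
  ext r
  rw [QFDual.mem_different_iff, Ideal.mem_span_singleton']
  constructor
  · intro hr
    obtain ⟨c, hc⟩ := hr (ε 1)
    refine ⟨c, ?_⟩
    apply ε.injective
    rw [← smul_eq_mul, map_smul, h, hc, ← map_smul, smul_eq_mul, mul_one]
  · rintro ⟨c, rfl⟩ m
    obtain ⟨u, rfl⟩ := ε.surjective m
    refine ⟨c * u, ?_⟩
    rw [← h, ← map_smul, ← map_smul, smul_eq_mul, smul_eq_mul]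
    congr 1
    ring

/-- **local case**: over a local ring, the different of a finite free syntomic algebra is the zeroth
Fitting ideal of its module of differentials. -/
theorem different_eq_fitt_of_isLocalRing [IsLocalRing A] [Module.Free A B] [Module.Finite A B]
    (h : Synt.IsSyntomic A B) :
    QFDual.different B (Disc.Omega.trace A B) = Fitt.ideal B (Ω[B⁄A]) 0 := by
  obtain ⟨n, F, ⟨e⟩⟩ := Groth.Agent.H74.FinSyntPres.exists_presentation h
  let pres : Algebra.Presentation A B (Fin n) (Fin n) :=
    (Algebra.Presentation.naive (v := F)).ofAlgEquiv e.symm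
  have hval : pres.val = fun j => e.symm (Ideal.Quotient.mk _ (X j)) := rfl
  have hrel : pres.relation = F := rfl
  have hker : ∀ g : MvPolynomial (Fin n) A, MvPolynomial.aeval pres.val g = 0 ↔
      g ∈ Ideal.span (Set.range F) := by
    intro g
    rw [← hrel, pres.span_range_relation_eq_ker, Algebra.Generators.ker_eq_ker_aeval_val,
      RingHom.mem_ker]
  obtain ⟨ε, hε⟩ := exists_equiv (B := B) F pres.val
    (fun i => (hker _).mpr (Ideal.subset_span ⟨i, rfl⟩))
    (fun y => by
      obtain ⟨g, hg⟩ := pres.algebraMap_surjective y
      exact ⟨g, by rw [← Algebra.Generators.algebraMap_apply]; exact hg⟩)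
    (fun g hg => (hker g).mp hg)
  rw [different_eq_span_of_equiv ε _ hε, fitt_kaehler_of_presentation pres, hrel]

end Groth.Agent.H81.Tate
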