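import Mathlib
import Groth.Agent.H81.Tate.Different
import Groth.Agent.H73.DiffBCOmega
import Groth.Agent.H47.Synt.BaseChange
import Groth.Agent.Lead.FittingLoc

/-!
# The different of a finite free syntomic algebra is the Kähler different  (helper81)

Globalization: ideals of `B` are compared after base change to the local rings of `A`.
-/

set_option autoImplicit false
set_option linter.unusedSectionVars false
set_option linter.unusedVariables false
set_option linter.style.haveILetI false
universe u

open TensorProduct

namespace Groth.Agent.H81.Tate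

attribute [local instance] Algebra.TensorProduct.rightAlgebra

variable {A B : Type u} [CommRing A] [CommRing B] [Algebra A B]

/-- an inclusion of ideals of an `A`-algebra `B` can be checked after base change to the local rings
of `A` at its maximal ideals -/
theorem ideal_le_of_forall_map_le (I J : Ideal B)
    (h : ∀ (p : Ideal A) [p.IsMaximal],
      I.map (algebraMap B (Localization.AtPrime p ⊗[A] B)) ≤
        J.map (algebraMap B (Localization.AtPrime p ⊗[A] B))) : I ≤ J := by
  intro x hx
  by_contra hxJ
  let 𝔞 : Ideal A := (J.colon {x}).comap (algebraMap A B)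
  have h𝔞 : 𝔞 ≠ ⊤ := by
    intro htop
    have h1 : (1 : A) ∈ 𝔞 := htop ▸ Submodule.mem_top
    have h2 : algebraMap A B 1 ∈ J.colon {x} := h1
    rw [Submodule.mem_colon_singleton, map_one, one_smul] at h2
    exact hxJ h2
  obtain ⟨p, hp, h𝔞p⟩ := Ideal.exists_le_maximal 𝔞 h𝔞
  haveI := hp
  have h1 := h p (Ideal.mem_map_of_mem _ hx)
  rw [IsLocalization.mem_map_algebraMap_iff (Algebra.algebraMapSubmonoid B p.primeCompl)] at h1
  obtain ⟨⟨c, s⟩, hcs⟩ := h1
  rw [← map_mul, IsLocalization.eq_iff_exists (Algebra.algebraMapSubmonoid B p.primeCompl)] at hcs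
  obtain ⟨t, ht⟩ := hcs
  obtain ⟨a₁, ha₁, has⟩ := s.2
  obtain ⟨a₂, ha₂, hat⟩ := t.2
  have h2 : a₂ * a₁ ∈ 𝔞 := by
    change algebraMap A B (a₂ * a₁) ∈ J.colon {x}
    rw [Submodule.mem_colon_singleton, map_mul, has, hat, smul_eq_mul, mul_assoc, mul_comm (s : B) x,
      ht]
    exact Ideal.mul_mem_left _ _ c.2
  have h3 := h𝔞p h2
  rcases hp.isPrime.mem_or_mem h3 with h4 | h4
  · exact ha₂ h4
  · exact ha₁ h4

theorem ideal_eq_of_forall_map_eq (I J : Ideal B)
    (h : ∀ (p : Ideal A) [p.IsMaximal],
      I.map (algebraMap B (Localization.AtPrime p ⊗[A] B)) =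
        J.map (algebraMap B (Localization.AtPrime p ⊗[A] B))) : I = J :=
  le_antisymm (ideal_le_of_forall_map_le I J fun p _ => (h p).le)
    (ideal_le_of_forall_map_le J I fun p _ => (h p).ge)

/-- Fitting ideals of Kähler differentials commute with base change (after `Groth.Agent.H44`) -/
theorem fitt_kaehler_baseChange' {R S A B : Type u} [CommRing R] [CommRing S] [CommRing A]
    [CommRing B] [Algebra R S] [Algebra R A] [Algebra S B] [Algebra A B] [Algebra R B]
    [IsScalarTower R S B] [IsScalarTower R A B] [Algebra.IsPushout R S A B]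
    [Algebra.FiniteType R A] (i : ℕ) :
    (Fitt.ideal A Ω[A⁄R] i).map (algebraMap A B) = Fitt.ideal B Ω[B⁄S] i := by
  rw [← Groth.Agent.Lead.fitt_ideal_baseChange,
    Groth.Agent.Lead.fitt_ideal_congr (KaehlerDifferential.tensorKaehlerEquiv R S A B)]

/-- **The different of a finite free syntomic algebra over a Noetherian ring is the zeroth Fitting
ideal of its module of differentials.** -/
theorem different_eq_fitt [IsNoetherianRing A] [Module.Free A B] [Module.Finite A B]
    (h : Synt.IsSyntomic A B) :
    QFDual.different B (Disc.Omega.trace A B) = Fitt.ideal B (Ω[B⁄A]) 0 := by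
  apply ideal_eq_of_forall_map_eq (A := A)
  intro p hp
  have hsynt : Synt.IsSyntomic (Localization.AtPrime p) (Localization.AtPrime p ⊗[A] B) :=
    Groth.Agent.H47.Synt.isSyntomic_baseChange A (Localization.AtPrime p) B h
  rw [Groth.Agent.H73.DiffBCOmega.main_flat A B (Localization.AtPrime p)
    (Localization.AtPrime p ⊗[A] B) inferInstance,
    different_eq_fitt_of_isLocalRing hsynt,
    fitt_kaehler_baseChange' (R := A) (S := Localization.AtPrime p) (A := B)
      (B := Localization.AtPrime p ⊗[A] B)]

end Groth.Agent.H81.Tate
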